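import Mathlib.RingTheory.Unramified.Basic
import Mathlib.RingTheory.Ideal.IdempotentFG
import Mathlib.RingTheory.FiniteType
import Mathlib.RingTheory.LocalRing.Basic

/-!
# The fixed loci of automorphisms of an unramified algebra are open

For `g, h : G` acting on `B`, the ideal `agreeIdeal g h` cuts out the locus where `g` and `h`
agree; for `B` unramified of finite type over a base fixed by `G` it is generated by an idempotent.
-/

set_option autoImplicit false
universe u

namespace Groth.Agent.EtaleQuot

variable {G B : Type u} [Group G] [CommRing B] [MulSemiringAction G B]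

/-- The ideal of the locus where `g` and `h` agree. -/
def agreeIdeal (g h : G) : Ideal B :=
  Ideal.span (Set.range fun x : B => g • x - h • x)

lemma smul_sub_smul_mem (g h : G) (x : B) : g • x - h • x ∈ agreeIdeal (B := B) g h :=
  Ideal.subset_span ⟨x, rfl⟩

/-- For an unramified algebra the ideal of agreement is generated by an idempotent. -/
theorem exists_idempotent (R : Type u) [CommRing R] [Algebra R B] [SMulCommClass G R B]
    [Algebra.FiniteType R B] [Algebra.FormallyUnramified R B] (g h : G) :
    ∃ ε : B, IsIdempotentElem ε ∧ agreeIdeal g h = Ideal.span {ε} := by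
  classical
  let σ : G → (B →ₐ[R] B) := fun k => MulSemiringAction.toAlgHom R B k
  obtain ⟨s, hs⟩ := Algebra.FiniteType.out (R := R) (A := B)
  have hfg : (agreeIdeal g h : Ideal B).FG := by
    let J : Ideal B := Ideal.span ↑(s.image fun x : B => g • x - h • x)
    have key : agreeIdeal g h = J := by
      refine le_antisymm (Ideal.span_le.2 ?_) (Ideal.span_le.2 ?_)
      · rintro _ ⟨x, rfl⟩
        have e : (Ideal.Quotient.mkₐ R J).comp (σ g) = (Ideal.Quotient.mkₐ R J).comp (σ h) :=
          AlgHom.ext_of_adjoin_eq_top hs fun x hx => Ideal.Quotient.eq.2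
            (Ideal.subset_span (Finset.mem_coe.2 (Finset.mem_image_of_mem _ hx)))
        exact Ideal.Quotient.eq.1 (DFunLike.congr_fun e x)
      · intro y hy
        obtain ⟨x, -, rfl⟩ := Finset.mem_image.1 (Finset.mem_coe.1 hy)
        exact smul_sub_smul_mem g h x
    exact key ▸ ⟨_, rfl⟩
  set I : Ideal B := agreeIdeal g h with hI
  have hsq : IsIdempotentElem I := by
    refine le_antisymm Ideal.mul_le_right ?_
    have e : (Ideal.Quotient.mkₐ R (I * I)).comp (σ g) = (Ideal.Quotient.mkₐ R (I * I)).comp (σ h) := by
      apply Algebra.FormallyUnramified.comp_injective (I.map (Ideal.Quotient.mk (I * I)))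
      · rw [pow_two, ← Ideal.map_mul, Ideal.map_quotient_self]
      · refine AlgHom.ext fun x => Ideal.Quotient.eq.2 ?_
        change Ideal.Quotient.mk (I * I) (g • x) - Ideal.Quotient.mk (I * I) (h • x) ∈ _
        rw [← map_sub]
        exact Ideal.mem_map_of_mem _ (smul_sub_smul_mem g h x)
    exact Ideal.span_le.2 (by
      rintro _ ⟨x, rfl⟩
      exact Ideal.Quotient.eq.1 (DFunLike.congr_fun e x))
  obtain ⟨ε, hε, hspan⟩ := (Ideal.isIdempotentElem_iff_of_fg I hfg).1 hsq
  exact ⟨ε, hε, hspan⟩

variable (G B) in
/-- All ideals of agreement are generated by idempotents. -/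
def OpenFixedLoci : Prop :=
  ∀ g h : G, ∃ ε : B, IsIdempotentElem ε ∧ agreeIdeal g h = Ideal.span {ε}

variable (hG : OpenFixedLoci G B)

/-- The idempotent supported where `g` and `h` agree. -/
noncomputable def agree (g h : G) : B := 1 - (hG g h).choose

lemma one_sub_agree_mem (g h : G) : 1 - agree hG g h ∈ agreeIdeal g h := by
  rw [agree, sub_sub_cancel]
  exact (le_of_eq (hG g h).choose_spec.2.symm) (Ideal.mem_span_singleton_self _)

lemma mul_agree (g h : G) (x : B) : (g • x) * agree hG g h = (h • x) * agree hG g h := by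
  have hm := smul_sub_smul_mem g h x
  rw [(hG g h).choose_spec.2] at hm
  obtain ⟨c, hc⟩ := Ideal.mem_span_singleton'.1 hm
  rw [← sub_eq_zero, ← sub_mul, ← hc, agree, mul_assoc, mul_sub, mul_one,
    (hG g h).choose_spec.1.eq, sub_self, mul_zero]

open Classical in
/-- The value of `agree` at a point. -/
lemma map_agree {L : Type u} [CommRing L] [IsLocalRing L] (φ : B →+* L) (g h : G) :
    φ (agree hG g h) = if ∀ x : B, φ (g • x) = φ (h • x) then 1 else 0 := by
  split_ifs with hgh
  · have h0 : agreeIdeal g h ≤ RingHom.ker φ := Ideal.span_le.2 (by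
      rintro _ ⟨x, rfl⟩
      simp [RingHom.mem_ker, hgh x])
    have := h0 (one_sub_agree_mem hG g h)
    rw [RingHom.mem_ker, map_sub, map_one, sub_eq_zero] at this
    exact this.symm
  · have hid : IsIdempotentElem (φ (agree hG g h)) :=
      (IsIdempotentElem.map (hG g h).choose_spec.1.one_sub φ)
    rcases IsLocalRing.isUnit_or_isUnit_one_sub_self (φ (agree hG g h)) with h1 | h1
    · refine (hgh fun x => h1.mul_right_cancel ?_).elim
      simpa using congrArg φ (mul_agree hG g h x)
    · refine h1.mul_right_eq_zero.1 ?_
      rw [sub_mul, one_mul, hid.eq, sub_self]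

end Groth.Agent.EtaleQuot
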