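import Groth.Agent.EtaleQuot.Ideal
import Mathlib.RingTheory.Invariant.Defs
import Mathlib.RingTheory.TensorProduct.Maps
import Mathlib.LinearAlgebra.TensorProduct.Finiteness
import Mathlib.RingTheory.LocalRing.MaximalIdeal.Basic
import Mathlib.RingTheory.LocalProperties.Basic
import Mathlib.RingTheory.Smooth.Fiber
import Mathlib.RingTheory.Finiteness.ModuleFinitePresentation
import Mathlib.Algebra.Module.FinitePresentation
import Mathlib.RingTheory.Unramified.Finite

/-!
# The invariants of a finite group with open fixed loci: `A → B` is finite étale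

The sum over the distinct germs in an orbit is a trace `B → A` even where the group does not
act freely.
-/

set_option autoImplicit false
set_option linter.style.haveILetI false
universe u

open TensorProduct

namespace Groth.Agent.EtaleQuot

section Comb

variable {ι M : Type*} [Fintype ι] [AddCommMonoid M] (r : Setoid ι)

open Classical in
/-- A sum over the least elements of the classes does not depend on the order. -/
lemma sum_least (o : ι → ℕ) (ho : Function.Injective o) (v : ι → M)
    (hv : ∀ i j, r.r i j → v i = v j) :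
    (∑ i, if ∀ j, r.r i j → o i ≤ o j then v i else 0) =
      ∑ q : Quotient r, v q.out := by
  rw [← Finset.sum_filter]
  refine Finset.sum_bij (fun i _ => (Quotient.mk r i)) (fun _ _ => Finset.mem_univ _) ?_ ?_ ?_
  · intro i hi j hj e
    have hij : r.r i j := Quotient.exact e
    exact ho (le_antisymm ((Finset.mem_filter.1 hi).2 j hij)
      ((Finset.mem_filter.1 hj).2 i (r.symm hij)))
  · intro q _
    obtain ⟨i, hi, hmin⟩ := Finset.exists_min_image
      (Finset.univ.filter fun j => r.r q.out j) o ⟨q.out, by simp [r.refl]⟩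
    rw [Finset.mem_filter] at hi
    exact ⟨i, Finset.mem_filter.2 ⟨Finset.mem_univ _, fun j hj => hmin j
      (Finset.mem_filter.2 ⟨Finset.mem_univ _, r.trans hi.2 hj⟩)⟩,
      (Quotient.sound (r.symm hi.2)).trans q.out_eq⟩
  · intro i _
    exact hv _ _ (r.symm (Quotient.mk_out i))

end Comb

variable {G B : Type u} [Group G] [CommRing B] [MulSemiringAction G B]

/-- Two elements with the same image in every local ring over `B` are equal. -/
lemma eq_of_map_eq {a b : B}
    (h : ∀ (L : Type u) [CommRing L] [IsLocalRing L] (φ : B →+* L), φ a = φ b) : a = b :=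
  sub_eq_zero.1 (eq_zero_of_localization _ fun J hJ => by
    rw [map_sub, sub_eq_zero]
    exact h _ _)

/-- The equivalence relation of agreement of germs. -/
@[implicit_reducible]
def germRel {L : Type u} [CommRing L] (φ : B →+* L) : Setoid G where
  r g h := ∀ x : B, φ (g • x) = φ (h • x)
  iseqv := ⟨fun _ _ => rfl, fun e x => (e x).symm, fun e e' x => (e x).trans (e' x)⟩

variable (hG : OpenFixedLoci G B) [Fintype G]

/-- The indicator of `g` being first among the elements with the same germ. -/
noncomputable def weight (o : G → ℕ) (g : G) : B :=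
  ∏ h : G, if o h < o g then 1 - agree hG g h else 1

/-- The sum over the distinct germs. -/
noncomputable def germSum (o : G → ℕ) (x : B) : B :=
  ∑ g : G, weight hG o g * g • x

open Classical in
lemma map_weight {L : Type u} [CommRing L] [IsLocalRing L] (φ : B →+* L) (o : G → ℕ) (g : G) :
    φ (weight hG o g) = if ∀ h, (germRel φ).r g h → o g ≤ o h then 1 else 0 := by
  rw [weight, map_prod]
  split_ifs with hmin
  · refine Finset.prod_eq_one fun h _ => ?_
    split_ifs with hlt
    · have : ¬ ∀ x : B, φ (g • x) = φ (h • x) := fun e => absurd (hmin h e) (not_le.2 hlt)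
      simp [map_agree, this]
    · exact map_one φ
  · push Not at hmin
    obtain ⟨h, he, hlt⟩ := hmin
    refine Finset.prod_eq_zero (Finset.mem_univ h) ?_
    have he' : ∀ x : B, φ (g • x) = φ (h • x) := he
    simp [hlt, map_agree, he']

open Classical in
lemma map_germSum {L : Type u} [CommRing L] [IsLocalRing L] (φ : B →+* L) (o : G → ℕ)
    (ho : Function.Injective o) (x : B) :
    φ (germSum hG o x) = ∑ q : Quotient (germRel (G := G) φ), φ (q.out • x) := by
  rw [germSum, map_sum, ← sum_least (germRel (G := G) φ) o ho (fun g => φ (g • x))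
    fun g h e => e x]
  refine Finset.sum_congr rfl fun g _ => ?_
  rw [map_mul, map_weight]
  split_ifs <;> simp

/-- The sum over the distinct germs is invariant. -/
lemma smul_germSum (o : G → ℕ) (ho : Function.Injective o) (x : B) (k : G) :
    k • germSum hG o x = germSum hG o x := by
  classical
  refine eq_of_map_eq fun L _ _ φ => ?_
  let ψ : B →+* L := φ.comp (MulSemiringAction.toRingHom G B k)
  let o' : G → ℕ := fun g => o (k * g)
  have ho' : Function.Injective o' := fun a b e => mul_left_cancel (ho e)
  have h1 : φ (k • germSum hG o x) = ψ (germSum hG o' x) := by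
    change ψ (germSum hG o x) = ψ (germSum hG o' x)
    rw [map_germSum hG ψ o ho, map_germSum hG ψ o' ho']
  rw [h1, germSum, map_sum, germSum, map_sum]
  refine Fintype.sum_equiv (Equiv.mulLeft k) _ _ fun g => ?_
  have hw : ψ (weight hG o' g) = φ (weight hG o (k * g)) := by
    rw [map_weight, map_weight]
    congr 1
    apply propext
    constructor
    · intro H h e
      have := H (k⁻¹ * h) fun y => by
        show φ (k • g • y) = φ (k • (k⁻¹ * h) • y)
        rw [← mul_smul, ← mul_smul, mul_inv_cancel_left]
        exact e y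
      simpa [o'] using this
    · intro H h e
      exact H (k * h) fun y => by
        rw [mul_smul, mul_smul]
        exact e y
  rw [map_mul, map_mul, hw]
  congr 1
  exact congrArg φ (mul_smul k g x).symm

variable {A : Type u} [CommRing A] [Algebra A B] [SMulCommClass G A B]

/-- `a ⊗ b ↦ a * g • b`. -/
noncomputable def galMap (g : G) : B ⊗[A] B →ₐ[A] B :=
  Algebra.TensorProduct.productMap (AlgHom.id A B) (MulSemiringAction.toAlgHom A B g)

omit [Fintype G] in
lemma galMap_tmul (g : G) (a b : B) : galMap (A := A) g (a ⊗ₜ[A] b) = a * g • b := by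
  simp [galMap]

omit [Fintype G] in
lemma galMap_mul_agree (g : G) (z : B ⊗[A] B) :
    galMap (A := A) g z * agree hG g 1 = galMap (A := A) (1 : G) z * agree hG g 1 := by
  induction z using TensorProduct.induction_on with
  | zero => simp
  | tmul a b => rw [galMap_tmul, galMap_tmul, mul_assoc, mul_assoc, mul_agree]
  | add x y hx hy => simp only [map_add, add_mul, hx, hy]

omit [Fintype G] in
lemma exists_sep (g : G) : ∃ u : B ⊗[A] B, galMap (1 : G) u = 1 ∧ galMap g u = agree hG g 1 := by
  suffices h : ∀ y ∈ agreeIdeal (B := B) g 1, ∃ v : B ⊗[A] B, galMap (1 : G) v = 0 ∧ galMap g v = y by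
    obtain ⟨v, hv1, hvg⟩ := h _ (one_sub_agree_mem hG g 1)
    exact ⟨1 - v, by rw [map_sub, map_one, hv1, sub_zero],
      by rw [map_sub, map_one, hvg, sub_sub_cancel]⟩
  intro y hy
  induction hy using Submodule.span_induction with
  | mem x hx =>
    obtain ⟨a, rfl⟩ := hx
    exact ⟨1 ⊗ₜ a - a ⊗ₜ 1, by simp [galMap_tmul], by simp [galMap_tmul]⟩
  | zero => exact ⟨0, map_zero _, map_zero _⟩
  | add x z _ _ hx hz =>
    obtain ⟨v, hv1, hvg⟩ := hx
    obtain ⟨w, hw1, hwg⟩ := hz
    exact ⟨v + w, by rw [map_add, hv1, hw1, add_zero], by rw [map_add, hvg, hwg]⟩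
  | smul c x _ hx =>
    obtain ⟨v, hv1, hvg⟩ := hx
    exact ⟨(c ⊗ₜ 1) * v, by rw [map_mul, hv1, mul_zero],
      by rw [map_mul, hvg, galMap_tmul, smul_one, mul_one, smul_eq_mul]⟩

/-- The element of `B ⊗ B` which is the indicator of the diagonal. -/
lemma exists_diag : ∃ f : B ⊗[A] B, ∀ g : G, galMap g f = agree hG g 1 := by
  classical
  choose u hu1 hug using exists_sep (A := A) hG
  refine ⟨∏ g : G, u g, fun h => ?_⟩
  rw [map_prod, ← Finset.mul_prod_erase _ _ (Finset.mem_univ h), hug]
  generalize Finset.univ.erase h = s
  induction s using Finset.induction_on with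
  | empty => simp
  | insert a t hat ih =>
    rw [Finset.prod_insert hat, mul_left_comm, ih, galMap_mul_agree, hu1, one_mul]

variable [Algebra.IsInvariant A B G] [FaithfulSMul A B]

include hG in
/-- With open fixed loci, `B` is finite projective and unramified over the invariants. -/
theorem finite_projective_unramified :
    Module.Finite A B ∧ Module.Projective A B ∧ Algebra.FormallyUnramified A B := by
  classical
  obtain ⟨f, hf⟩ := exists_diag (A := A) hG
  obtain ⟨n, p, q, hpq⟩ : ∃ (n : ℕ) (p q : Fin n → B), f = ∑ i, p i ⊗ₜ[A] q i := by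
    obtain ⟨S, hS⟩ := TensorProduct.exists_finset f
    refine ⟨S.card, fun i => (S.equivFin.symm i).1.1, fun i => (S.equivFin.symm i).1.2, ?_⟩
    rw [hS, ← Finset.sum_coe_sort S fun i => i.1 ⊗ₜ[A] i.2]
    exact Fintype.sum_equiv S.equivFin _ _ fun i => by simp
  let e := Fintype.equivFin G
  let o : G → ℕ := fun g => (e g : ℕ)
  have ho : Function.Injective o := fun a b h => e.injective (Fin.ext h)
  have hinj := FaithfulSMul.algebraMap_injective A B
  choose T hT using fun x : B => Algebra.IsInvariant.isInvariant (A := A) (G := G)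
    (germSum hG o x) (smul_germSum hG o ho x)
  let Tl : B →ₗ[A] A :=
    { toFun := T
      map_add' := fun x y => hinj (by
        rw [map_add, hT, hT, hT, germSum, germSum, germSum, ← Finset.sum_add_distrib]
        exact Finset.sum_congr rfl fun g _ => by rw [smul_add, mul_add])
      map_smul' := fun c x => hinj (by
        rw [RingHom.id_apply, smul_eq_mul, map_mul, hT, hT, germSum, germSum, Finset.mul_sum]
        exact Finset.sum_congr rfl fun g _ => by
          rw [smul_comm, Algebra.smul_def, mul_left_comm]) }
  -- the dual basis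
  have key : ∀ x : B, ∑ i, T (x * p i) • q i = x := by
    intro x
    refine eq_of_map_eq fun L _ _ φ => ?_
    have hc : ∀ g : G, φ (∑ i, (g • p i) * q i) =
        if (germRel φ).r g 1 then 1 else 0 := by
      intro g
      have h1 : ∑ i, (g • p i) * q i = g • galMap g⁻¹ f := by
        rw [hpq, map_sum, Finset.smul_sum]
        exact Finset.sum_congr rfl fun i _ => by rw [galMap_tmul, smul_mul', smul_inv_smul]
      rw [h1, hf, show φ (g • agree hG g⁻¹ 1) =
        (φ.comp (MulSemiringAction.toRingHom G B g)) (agree hG g⁻¹ 1) from rfl, map_agree]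
      refine if_congr (forall_congr' fun y => ?_) rfl rfl
      show φ (g • g⁻¹ • y) = φ (g • (1 : G) • y) ↔ φ (g • y) = φ ((1 : G) • y)
      rw [smul_inv_smul, one_smul]
      exact eq_comm
    let v : G → L := fun g => if (germRel φ).r g 1 then φ x else 0
    have hv : ∀ g h, (germRel φ).r g h → v g = v h := by
      intro g h hgh
      exact if_congr ⟨(germRel φ).trans ((germRel φ).symm hgh), (germRel φ).trans hgh⟩ rfl rfl
    let o₁ : G → ℕ := fun g => if g = 1 then 0 else o g + 1
    have ho₁ : Function.Injective o₁ := fun a b h => by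
      simp only [o₁] at h
      split_ifs at h with ha hb hb
      · rw [ha, hb]
      · exact ho (Nat.succ_injective h)
    have h2 : ∀ i, φ (T (x * p i) • q i) =
        ∑ g, φ (weight hG o g) * (φ (g • x) * φ ((g • p i) * q i)) := fun i => by
      rw [Algebra.smul_def, hT, germSum, Finset.sum_mul, map_sum]
      exact Finset.sum_congr rfl fun g _ => by simp only [smul_mul', map_mul]; ring
    rw [map_sum, Finset.sum_congr rfl fun i _ => h2 i, Finset.sum_comm]
    have h4 : ∀ g : G, ∑ i, φ (weight hG o g) * (φ (g • x) * φ ((g • p i) * q i)) =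
        if ∀ h, (germRel φ).r g h → o g ≤ o h then v g else 0 := fun g => by
      rw [← Finset.mul_sum, ← Finset.mul_sum, ← map_sum, hc, map_weight, ite_mul, one_mul, zero_mul]
      refine if_congr Iff.rfl ?_ rfl
      simp only [v]
      split_ifs with hg
      · rw [mul_one, hg x, one_smul]
      · rw [mul_zero]
    rw [Finset.sum_congr rfl fun g _ => h4 g]
    calc _
      _ = ∑ g, if ∀ h, (germRel φ).r g h → o₁ g ≤ o₁ h then v g else 0 := by
          rw [sum_least (germRel φ) o ho v hv, sum_least (germRel φ) o₁ ho₁ v hv]
      _ = φ x := by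
          rw [Finset.sum_eq_single 1]
          · rw [if_pos fun h _ => by simp [o₁]]
            exact if_pos ((germRel φ).refl 1)
          · intro g _ hg
            by_cases hr : (germRel φ).r g 1
            · refine if_neg fun H => ?_
              simpa [o₁, hg] using H 1 hr
            · simp [v, hr]
          · simp
  -- finite projective
  let ev : (Fin n → A) →ₗ[A] B := ∑ i, (LinearMap.proj i).smulRight (q i)
  have hev : ∀ c, ev c = ∑ i, c i • q i := fun c => by simp [ev]
  let co : B →ₗ[A] (Fin n → A) := LinearMap.pi fun i => Tl.comp (LinearMap.mulRight A (p i))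
  have hec : ev.comp co = LinearMap.id := LinearMap.ext fun x => (hev _).trans (key x)
  refine ⟨Module.Finite.of_surjective ev fun x => ⟨co x, LinearMap.congr_fun hec x⟩,
    Module.Projective.of_split co ev hec, ?_⟩
  -- the maps `galMap g` are jointly injective
  have joint : ∀ z : B ⊗[A] B, (∀ g : G, galMap g z = 0) → z = 0 := by
    intro z hz
    have hexp : ∀ z : B ⊗[A] B,
        ∑ i, (∑ g : G, weight hG o g * galMap g (z * (1 ⊗ₜ p i))) ⊗ₜ[A] q i = z := by
      intro z
      induction z using TensorProduct.induction_on with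
      | zero => simp
      | tmul a b =>
        conv_rhs => rw [← key b, TensorProduct.tmul_sum]
        refine Finset.sum_congr rfl fun i _ => ?_
        have h3 : ∑ g : G, weight hG o g * galMap g ((a ⊗ₜ[A] b) * (1 ⊗ₜ p i)) =
            T (b * p i) • a := by
          rw [Algebra.smul_def, hT, germSum, Finset.sum_mul]
          refine Finset.sum_congr rfl fun g _ => ?_
          rw [Algebra.TensorProduct.tmul_mul_tmul, galMap_tmul, mul_one]
          ring
        rw [h3, TensorProduct.smul_tmul]
      | add x y hx hy =>
        conv_rhs => rw [← hx, ← hy, ← Finset.sum_add_distrib]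
        refine Finset.sum_congr rfl fun i _ => ?_
        simp only [add_mul, map_add, mul_add, Finset.sum_add_distrib, TensorProduct.add_tmul]
    rw [← hexp z]
    simp [hz]
  -- the diagonal ideal is idempotent
  rw [Algebra.formallyUnramified_iff]
  change Subsingleton (KaehlerDifferential.ideal A B).Cotangent
  rw [Ideal.cotangent_subsingleton_iff]
  refine le_antisymm Ideal.mul_le_right ?_
  conv_lhs => rw [← KaehlerDifferential.span_range_eq_ideal]
  rw [Ideal.span_le]
  rintro _ ⟨b, rfl⟩
  have hk : ((1 : B) ⊗ₜ[A] b - b ⊗ₜ 1) * f = 0 := joint _ fun g => by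
    rw [map_mul, map_sub, galMap_tmul, galMap_tmul, one_mul, smul_one, mul_one, hf, sub_mul,
      mul_agree, one_smul, sub_self]
  show (1 : B) ⊗ₜ[A] b - b ⊗ₜ 1 ∈ _
  rw [sub_eq_zero.1 (show ((1 : B) ⊗ₜ[A] b - b ⊗ₜ 1) -
    ((1 : B) ⊗ₜ[A] b - b ⊗ₜ 1) * (1 - f) = 0 by rw [mul_sub, mul_one, sub_sub_cancel, hk])]
  refine Ideal.mul_mem_mul (KaehlerDifferential.one_smul_sub_smul_one_mem_ideal A b) ?_
  show Algebra.TensorProduct.lmul' A (S := B) (1 - f) = 0
  have hl : Algebra.TensorProduct.lmul' A (S := B) = galMap (A := A) (1 : G) :=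
    Algebra.TensorProduct.ext' fun a b => by simp [galMap_tmul]
  have h11 : agree hG (1 : G) 1 = 1 := eq_of_map_eq fun L _ _ φ => by
    rw [map_agree, if_pos fun _ => rfl, map_one]
  rw [hl, map_sub, map_one, hf, h11, sub_self]

end Groth.Agent.EtaleQuot
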