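import Groth.Agent.EtaleQuot.Ring
import Groth.Agent.SGA1Q.Orbits
import Mathlib.AlgebraicGeometry.Morphisms.Etale

/-!
# A quotient by a finite group acting on a scheme étale over the base is étale
-/

set_option autoImplicit false
set_option linter.style.haveILetI false
set_option backward.isDefEq.respectTransparency false
universe u

open CategoryTheory CategoryTheory.Limits AlgebraicGeometry TopologicalSpace

namespace Groth.Agent.EtaleQuot

variable {X X' Y : Scheme.{u}} {G : Type u} [Group G] [Finite G] {ρ : G →* Aut X}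
  {p : X ⟶ X'} {q : X' ⟶ Y} {f : X ⟶ Y}

theorem etale_of_isQuot [Etale f] (hp : SGA1.IsQuot ρ p) (hq : p ≫ q = f) : Etale p := by
  cases nonempty_fintype G
  haveI := hp.affine
  rw [HasRingHomProperty.iff_exists_appLE (P := @Etale) (RingHom.Etale.stableUnderComposition.stableUnderCompositionWithLocalizationAway
    (fun R S _ _ _ r _ => RingHom.etale_algebraMap.2 (Algebra.Etale.of_isLocalizationAway r))).1]
  intro x
  obtain ⟨V, hV, hxV, -⟩ := exists_isAffineOpen_mem_and_subset (x := q (p x)) (U := ⊤) trivial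
  obtain ⟨W, hW, hxW, hWV⟩ := exists_isAffineOpen_mem_and_subset (x := p x) (U := q ⁻¹ᵁ V) hxV
  have hU : IsAffineOpen (p ⁻¹ᵁ W) := hW.preimage p
  refine ⟨⟨W, hW⟩, ⟨p ⁻¹ᵁ W, hU⟩, hxW, le_rfl, ?_⟩
  rw [← Scheme.Hom.app_eq_appLE]
  letI := SGA1Q.secAction ρ (p ⁻¹ᵁ W) (fun g => SGA1.preimage_le_of_inv ρ p hp.inv g W)
  letI := (p.app W).hom.toAlgebra
  obtain ⟨hcomm, hinv⟩ := SGA1Q.isInvariant_of_isQuot hp W
  haveI := hcomm
  haveI := hinv
  let φ : Γ(Y, V) ⟶ Γ(X', W) := q.appLE V W hWV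
  have hle : p ⁻¹ᵁ W ≤ f ⁻¹ᵁ V := hq ▸ p.preimage_mono hWV
  have het : (φ ≫ p.app W).hom.Etale := by
    have e := HasRingHomProperty.appLE @Etale f ‹_› ⟨V, hV⟩ ⟨p ⁻¹ᵁ W, hU⟩ hle
    have e' : f.appLE V (p ⁻¹ᵁ W) hle = φ ≫ p.app W := by
      rw [SGA1Q.appLE_congr_hom hq.symm hle (p.preimage_mono hWV),
        Scheme.Hom.app_eq_appLE, Scheme.Hom.appLE_comp_appLE]
    rwa [← e']
  letI := (φ ≫ p.app W).hom.toAlgebra
  haveI : Algebra.Etale Γ(Y, V) Γ(X, p ⁻¹ᵁ W) := het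
  haveI : SMulCommClass G Γ(Y, V) Γ(X, p ⁻¹ᵁ W) := ⟨fun g r b => by
    rw [Algebra.smul_def, Algebra.smul_def, smul_mul']
    congr 1
    exact SGA1Q.appLE_app_of_inv hp.inv W g⁻¹ (φ.hom r)⟩
  haveI : FaithfulSMul Γ(X', W) Γ(X, p ⁻¹ᵁ W) :=
    (faithfulSMul_iff_algebraMap_injective _ _).2 (hp.injective W)
  obtain ⟨hfin, hproj, hunr⟩ := finite_projective_unramified (A := Γ(X', W))
    (fun g h => exists_idempotent (G := G) (B := Γ(X, p ⁻¹ᵁ W)) Γ(Y, V) g h)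
  haveI := Module.finitePresentation_of_projective Γ(X', W) Γ(X, p ⁻¹ᵁ W)
  haveI : Algebra.FinitePresentation Γ(X', W) Γ(X, p ⁻¹ᵁ W) :=
    Algebra.FinitePresentation.of_finitePresentation Γ(X', W) Γ(X, p ⁻¹ᵁ W)
  exact RingHom.Etale.iff_flat_and_formallyUnramified.2
    ⟨(inferInstance : Module.Flat Γ(X', W) Γ(X, p ⁻¹ᵁ W)), hunr, ‹_›⟩

end Groth.Agent.EtaleQuot
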